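import Mathlib

/-!
# The monic generator of a subgroup of the additive line is additive
-/

open Polynomial TensorProduct

namespace Groth.Agent.Deform.GaIsog

universe u

variable {k : Type u} [Field k]

theorem hasseDeriv_map' {R R' : Type*} [Semiring R] [Semiring R'] (f : R →+* R') (j : ℕ) (P : R[X]) :
    hasseDeriv j (P.map f) = (hasseDeriv j P).map f := by
  ext i
  simp [hasseDeriv_coeff]

/-- If `P(x + y) = 0` in `k[x]/P ⊗ k[y]/P` then `P` is additive. -/
theorem additive_of_vanish {P : k[X]} (hP : P.Monic) (h0 : P.eval 0 = 0)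
    (hv : aeval (AdjoinRoot.root P ⊗ₜ[k] (1 : AdjoinRoot P) + (1 : AdjoinRoot P) ⊗ₜ[k] AdjoinRoot.root P) P = 0)
    {R : Type*} [CommRing R] [Algebra k R] (a b : R) : aeval (a + b) P = aeval a P + aeval b P := by
  classical
  have hdpos : 0 < P.natDegree := Nat.pos_of_ne_zero fun hd =>
    one_ne_zero (show (1 : k) = 0 by rw [← h0, hP.natDegree_eq_zero.1 hd, eval_one])
  haveI : Nontrivial (AdjoinRoot P) := AdjoinRoot.nontrivial P
    (by rw [degree_eq_natDegree hP.ne_zero]; exact_mod_cast hdpos.ne')
  let A := AdjoinRoot P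
  let x : A := AdjoinRoot.root P
  let PA : A[X] := P.map (algebraMap k A)
  let d := P.natDegree
  -- in A[Y]: P(x + Y) = P(Y)
  let Q : A[X] := taylor x PA - PA
  have hmapdeg : PA.natDegree = d := natDegree_map _
  have hlead : ∀ j, d ≤ j → Q.coeff j = 0 := by
    intro j hj
    show (taylor x PA - PA).coeff j = 0
    rw [coeff_sub]
    rcases hj.eq_or_lt with rfl | hlt
    · rw [← hmapdeg, coeff_natDegree, ← natDegree_taylor PA x, coeff_natDegree, leadingCoeff_taylor]
      simp
    · rw [coeff_eq_zero_of_natDegree_lt (by rw [natDegree_taylor, hmapdeg]; exact hlt),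
        coeff_eq_zero_of_natDegree_lt (by rw [hmapdeg]; exact hlt), sub_zero]
  have hQev : aeval ((1 : A) ⊗ₜ[k] x) Q = 0 := by
    have e1 : ∀ z : A ⊗[k] A, aeval z PA = aeval z P := fun z => aeval_map_algebraMap A z P
    show aeval ((1 : A) ⊗ₜ[k] x) (taylor x PA - PA) = 0
    rw [map_sub, taylor_apply, aeval_comp, e1 (_ : A ⊗[k] A), e1]
    have e2 : aeval ((1 : A) ⊗ₜ[k] x) (X + C x) = x ⊗ₜ[k] (1 : A) + (1 : A) ⊗ₜ[k] x := by
      simp [Algebra.TensorProduct.algebraMap_apply, add_comm]
    have e3 : aeval ((1 : A) ⊗ₜ[k] x) P = 0 := by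
      have := aeval_algHom_apply (Algebra.TensorProduct.includeRight : A →ₐ[k] A ⊗[k] A) x P
      rw [show aeval x P = 0 by rw [AdjoinRoot.aeval_eq, AdjoinRoot.mk_self]] at this
      simpa using this
    rw [e2, e3, sub_zero]
    exact hv
  have hQ : Q = 0 := by
    let pb := AdjoinRoot.powerBasis' hP
    let bb := Algebra.TensorProduct.basis A pb.basis
    have hsum : ∑ i : Fin pb.dim, Q.coeff i • bb i = 0 := by
      have hbb : ∀ i, bb i = ((1 : A) ⊗ₜ[k] x) ^ (i : ℕ) := fun i => by
        rw [Algebra.TensorProduct.basis_apply, PowerBasis.basis_eq_pow, Algebra.TensorProduct.tmul_pow, one_pow]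
        rfl
      simp only [hbb]
      rcases eq_or_ne Q 0 with hq | hq
      · simp [hq]
      rw [← hQev, aeval_eq_sum_range' (n := pb.dim)]
      · exact (Fin.sum_univ_eq_sum_range (fun i => Q.coeff i • ((1 : A) ⊗ₜ[k] x) ^ i) pb.dim)
      · by_contra hge
        push_neg at hge
        exact leadingCoeff_ne_zero.2 hq (hlead _ hge)
    ext j
    rw [coeff_zero]
    rcases lt_or_ge j d with hj | hj
    · exact Fintype.linearIndependent_iff.1 bb.linearIndependent (fun i => Q.coeff i) hsum ⟨j, hj⟩
    · exact hlead j hj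
  -- Hasse derivatives are constant
  have hhasse : ∀ j, 0 < j → hasseDeriv j P = C (P.coeff j) := by
    intro j hj
    rw [← sub_eq_zero]
    refine Classical.byContradiction fun hne => ?_
    have hdvd : P ∣ hasseDeriv j P - C (P.coeff j) := by
      rw [← AdjoinRoot.mk_eq_zero, ← AdjoinRoot.aeval_eq]
      have := congrArg (fun q : A[X] => q.coeff j) hQ
      simp only [Q, coeff_sub, coeff_zero, taylor_coeff, PA, coeff_map] at this
      rw [map_sub, aeval_C, ← this, hasseDeriv_map', eval_map_algebraMap]
    have h1 := natDegree_le_of_dvd hdvd hne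
    have h2 : (hasseDeriv j P - C (P.coeff j)).natDegree ≤ d - j := by
      refine (natDegree_sub_le _ _).trans (max_le (natDegree_hasseDeriv_le P j) ?_)
      rw [natDegree_C]; exact Nat.zero_le _
    have hd : 0 < d := hdpos
    omega
  have hid : taylor a (P.map (algebraMap k R)) = P.map (algebraMap k R) + Polynomial.C (aeval a P) := by
    ext j
    rw [taylor_coeff, hasseDeriv_map', coeff_add, coeff_map, eval_map_algebraMap]
    rcases Nat.eq_zero_or_pos j with rfl | hj
    · rw [hasseDeriv_zero, LinearMap.id_coe, id_eq, coeff_C_zero, coeff_zero_eq_eval_zero, h0, map_zero, zero_add]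
    · rw [hhasse j hj, aeval_C, coeff_C_ne_zero hj.ne', add_zero]
  have := congrArg (eval b) hid
  rw [taylor_eval, eval_add, eval_C, eval_map_algebraMap, eval_map_algebraMap] at this
  rw [add_comm a b, this, add_comm]

/-- An additive monic polynomial gives an integral endomorphism of `k[X]`. -/
theorem isIntegral_aeval {P : k[X]} (hP : P.Monic) (hd : 0 < P.natDegree) : (aeval P : k[X] →ₐ[k] k[X]).toRingHom.IsIntegral := by
  letI := (aeval P : k[X] →ₐ[k] k[X]).toRingHom.toAlgebra
  have hal : ∀ y, algebraMap k[X] k[X] y = aeval P y := fun _ => rfl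
  intro y
  induction y using Polynomial.induction_on' with
  | add p q hp hq => exact RingHom.IsIntegralElem.add _ hp hq
  | monomial n c =>
    rw [← C_mul_X_pow_eq_monomial]
    have hc : (aeval P : k[X] →ₐ[k] k[X]).toRingHom.IsIntegralElem (C c) :=
      ⟨X - C (C c), monic_X_sub_C _, by simp⟩
    have hX : (aeval P : k[X] →ₐ[k] k[X]).toRingHom.IsIntegralElem (X : k[X]) := by
      refine ⟨P.map (C : k →+* k[X]) - C X, ?_, ?_⟩
      · refine (hP.map _).sub_of_left ?_
        rw [degree_eq_natDegree (hP.map _).ne_zero, natDegree_map]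
        exact lt_of_le_of_lt degree_C_le (by exact_mod_cast hd)
      · rw [eval₂_sub, eval₂_map, eval₂_C]
        show eval₂ ((aeval P : k[X] →ₐ[k] k[X]).toRingHom.comp C) X P - aeval P X = 0
        rw [aeval_X, show (aeval P : k[X] →ₐ[k] k[X]).toRingHom.comp C = C from RingHom.ext fun r => aeval_C P r,
          eval₂_C_X, sub_self]
    refine RingHom.IsIntegralElem.mul _ hc ?_
    induction n with
    | zero => simpa using RingHom.isIntegralElem_one _
    | succ m ih => rw [pow_succ]; exact RingHom.IsIntegralElem.mul _ ih hX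

end Groth.Agent.Deform.GaIsog
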